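import Mathlib

/-!
# The centralizer of `(01)(23)(45)(67)` in `S₉` (helper692, S2927)
-/

set_option autoImplicit false
set_option maxRecDepth 20000

namespace Cfsg.Agent.H692.Tall.Nine

open Equiv

/-- `z = (01)(23)(45)(67)` -/
def zf : Fin 9 → Fin 9 := ![1, 0, 3, 2, 5, 4, 7, 6, 8]

/-- the function with given images of `0, 2, 4, 6` commuting with `z` -/
def F (a b c d : Fin 9) : Fin 9 → Fin 9 := ![a, zf a, b, zf b, c, zf c, d, zf d, 8]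

/-- `3`-cycles on the blocks, and the identity -/
def Cf : Fin 5 → Fin 9 → Fin 9 :=
  ![![0, 1, 2, 3, 4, 5, 6, 7, 8], ![2, 3, 4, 5, 0, 1, 6, 7, 8], ![2, 3, 6, 7, 4, 5, 0, 1, 8],
    ![4, 5, 2, 3, 6, 7, 0, 1, 8], ![0, 1, 4, 5, 6, 7, 2, 3, 8]]

/-- their inverses -/
def Ci : Fin 5 → Fin 9 → Fin 9 := fun k i => Cf k (Cf k i)

def zp : Perm (Fin 9) := ⟨zf, zf, by decide, by decide⟩

def Cp (k : Fin 5) : Perm (Fin 9) :=
  ⟨Cf k, Ci k, by revert k; decide, by revert k; decide⟩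

/-- the double transpositions on the blocks -/
def Ly : Fin 12 → Fin 9 → Fin 9 :=
  ![![2, 3, 0, 1, 6, 7, 4, 5, 8], ![3, 2, 1, 0, 6, 7, 4, 5, 8], ![2, 3, 0, 1, 7, 6, 5, 4, 8], ![3, 2, 1, 0, 7, 6, 5, 4, 8],
    ![4, 5, 6, 7, 0, 1, 2, 3, 8], ![5, 4, 6, 7, 1, 0, 2, 3, 8], ![4, 5, 7, 6, 0, 1, 3, 2, 8], ![5, 4, 7, 6, 1, 0, 3, 2, 8],
    ![6, 7, 4, 5, 2, 3, 0, 1, 8], ![7, 6, 4, 5, 2, 3, 1, 0, 8], ![6, 7, 5, 4, 3, 2, 0, 1, 8], ![7, 6, 5, 4, 3, 2, 1, 0, 8]]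

/-- flips -/
def LE (s : Fin 4 → Bool) : Fin 9 → Fin 9 :=
  ![bif s 0 then 1 else 0, bif s 0 then 0 else 1, bif s 1 then 3 else 2, bif s 1 then 2 else 3,
    bif s 2 then 5 else 4, bif s 2 then 4 else 5, bif s 3 then 7 else 6, bif s 3 then 6 else 7, 8]

theorem chk1 : ∀ a b c d : Fin 9, (∀ i, F a b c d (F a b c d i) = i) →
    (∃ k i, F a b c d (Cf k (F a b c d (Ci k i))) ≠ Cf k (F a b c d (Ci k (F a b c d i)))) ∨
    (∃ j, ∀ i, F a b c d i = Ly j i) ∨ (∃ s, ∀ i, F a b c d i = LE s i) := by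
  decide +kernel

/-- not constant -/
def NC (s : Fin 4 → Bool) : Prop := ¬ ∀ a, s a = s 0

instance (s : Fin 4 → Bool) : Decidable (NC s) := inferInstanceAs (Decidable (¬ ∀ a, s a = s 0))

theorem chk2 : ∀ j : Fin 12, ∀ s : Fin 4 → Bool, NC s →
    ∃ k i, Ly j (Cf k (LE s (Ci k i))) ≠ Cf k (LE s (Ci k (Ly j i))) := by
  decide +kernel

/-- `(01)` -/
def f0 : Fin 9 → Fin 9 := ![1, 0, 2, 3, 4, 5, 6, 7, 8]

theorem chk3 : ∀ j : Fin 12, ∃ s : Fin 4 → Bool, NC s ∧ ∀ i, Ly j (f0 (Ly j (f0 i))) = LE s i := by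
  decide +kernel

theorem chk4 : ∀ s : Fin 4 → Bool, NC s ∨ (∀ i, LE s i = i) ∨ ∀ i, LE s i = zf i := by
  decide +kernel

theorem chk5 : ∀ s : Fin 4 → Bool, NC s → ∃ i, i ≠ 8 ∧ LE s i = i := by
  decide +kernel

theorem chk6 : ∀ j : Fin 12, ∀ i, i ≠ 8 → Ly j i ≠ i := by
  decide +kernel

def fp : Perm (Fin 9) := ⟨f0, f0, by decide, by decide⟩

/-- the code of an element commuting with `z` -/
theorem code {w : Perm (Fin 9)} (hw : w * zp = zp * w) : ∀ i, w i = F (w 0) (w 2) (w 4) (w 6) i := by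
  have h : ∀ i, w (zf i) = zf (w i) := fun i => congrArg (fun g : Perm (Fin 9) => g i) hw
  have h8 : w 8 = 8 := by
    have h1 : w 8 = zf (w 8) := h 8
    have h2 : ∀ j : Fin 9, j = zf j → j = 8 := by decide
    exact h2 _ h1
  intro i
  fin_cases i
  · rfl
  · exact h 0
  · rfl
  · exact h 2
  · rfl
  · exact h 4
  · rfl
  · exact h 6
  · exact h8

theorem cls {W : Set (Perm (Fin 9))} (hzc : ∀ w ∈ W, w * zp = zp * w) (hsq : ∀ w ∈ W, w * w = 1)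
    (hcomm : ∀ v ∈ W, ∀ w ∈ W, v * w = w * v) (hconj : ∀ k, ∀ w ∈ W, Cp k * w * (Cp k)⁻¹ ∈ W)
    {w : Perm (Fin 9)} (hw : w ∈ W) : (∃ j, ∀ i, w i = Ly j i) ∨ (∃ s, ∀ i, w i = LE s i) := by
  have hc := code (hzc w hw)
  have h2 : ∀ i, w (w i) = i := fun i => congrArg (fun g : Perm (Fin 9) => g i) (hsq w hw)
  rcases chk1 (w 0) (w 2) (w 4) (w 6) (fun i => by rw [← hc, ← hc]; exact h2 i) with ⟨k, i, h⟩ | ⟨j, h⟩ | ⟨s, h⟩
  · exfalso
    rw [← hc, ← hc, ← hc, ← hc] at h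
    exact h (congrArg (fun g : Perm (Fin 9) => g i) (hcomm w hw _ (hconj k w hw)))
  · exact .inl ⟨j, fun i => by rw [hc]; exact h i⟩
  · exact .inr ⟨s, fun i => by rw [hc]; exact h i⟩

/-- **`A₉`**: with one further element of type `2⁴` all elements are of this type. -/
theorem nine_a {W : Set (Perm (Fin 9))} (hzc : ∀ w ∈ W, w * zp = zp * w) (hsq : ∀ w ∈ W, w * w = 1)
    (hcomm : ∀ v ∈ W, ∀ w ∈ W, v * w = w * v) (hconj : ∀ k, ∀ w ∈ W, Cp k * w * (Cp k)⁻¹ ∈ W)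
    {y : Perm (Fin 9)} (hy : y ∈ W) (hy8 : ∀ i, i ≠ 8 → y i ≠ i) (hyz : y ≠ zp) {w : Perm (Fin 9)} (hw : w ∈ W)
    (hw1 : w ≠ 1) : ∀ i, i ≠ 8 → w i ≠ i := by
  obtain ⟨j, hj⟩ : ∃ j, ∀ i, y i = Ly j i := by
    rcases cls hzc hsq hcomm hconj hy with h | ⟨s, h⟩
    · exact h
    · exfalso
      rcases chk4 s with h1 | h1 | h1
      · obtain ⟨i, hi, h2⟩ := chk5 s h1
        exact hy8 i hi (by rw [h, h2])
      · exact hy8 0 (by decide) (by rw [h, h1])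
      · exact hyz (Equiv.ext fun i => by rw [h, h1]; rfl)
  rcases cls hzc hsq hcomm hconj hw with ⟨j', h⟩ | ⟨s, h⟩
  · intro i hi
    rw [h]
    exact chk6 j' i hi
  · rcases chk4 s with h1 | h1 | h1
    · exfalso
      obtain ⟨k, i, h2⟩ := chk2 j s h1
      rw [← hj, ← hj, ← h, ← h] at h2
      exact h2 (congrArg (fun g : Perm (Fin 9) => g i) (hcomm y hy _ (hconj k w hw)))
    · exact absurd (Equiv.ext fun i => by rw [h, h1]; rfl) hw1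
    · intro i hi
      rw [h, h1]
      revert i hi
      decide

/-- **`S₉`**: contradiction. -/
theorem nine_b {W : Set (Perm (Fin 9))} (hzc : ∀ w ∈ W, w * zp = zp * w) (hsq : ∀ w ∈ W, w * w = 1)
    (hcomm : ∀ v ∈ W, ∀ w ∈ W, v * w = w * v) (hmul : ∀ v ∈ W, ∀ w ∈ W, v * w ∈ W)
    (hconj : ∀ k, ∀ w ∈ W, Cp k * w * (Cp k)⁻¹ ∈ W) (hf : ∀ w ∈ W, fp * w * fp⁻¹ ∈ W)
    {y : Perm (Fin 9)} (hy : y ∈ W) (hy8 : ∀ i, i ≠ 8 → y i ≠ i) (hyz : y ≠ zp) : False := by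
  obtain ⟨j, hj⟩ : ∃ j, ∀ i, y i = Ly j i := by
    rcases cls hzc hsq hcomm hconj hy with h | ⟨s, h⟩
    · exact h
    · exfalso
      rcases chk4 s with h1 | h1 | h1
      · obtain ⟨i, hi, h2⟩ := chk5 s h1
        exact hy8 i hi (by rw [h, h2])
      · exact hy8 0 (by decide) (by rw [h, h1])
      · exact hyz (Equiv.ext fun i => by rw [h, h1]; rfl)
  obtain ⟨s, hs, h1⟩ := chk3 j
  have hv : (fp * y * fp⁻¹) * y ∈ W := hmul _ (hf y hy) _ hy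
  have hv2 : y * (fp * y * fp⁻¹) ∈ W := hmul _ hy _ (hf y hy)
  have hvi : ∀ i, (y * (fp * y * fp⁻¹)) i = LE s i := by
    intro i
    rw [← h1, ← hj, ← hj]
    rfl
  obtain ⟨i, hi, h2⟩ := chk5 s hs
  have hne : y * (fp * y * fp⁻¹) ≠ 1 := by
    intro h3
    have h4 : ∀ i, LE s i = i := fun i => by rw [← hvi, h3]; rfl
    exact hs (by
      have : ∀ s : Fin 4 → Bool, (∀ i, LE s i = i) → ∀ a, s a = s 0 := by decide +kernel
      exact this s h4)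
  exact nine_a hzc hsq hcomm hconj hy hy8 hyz hv2 hne i hi (by rw [hvi, h2])

end Cfsg.Agent.H692.Tall.Nine
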