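import Mathlib

/-!
# The centralizer of `(01)(23)(45)(67)` in `S₁₀` (helper692, S2927)
-/

set_option autoImplicit false
set_option maxRecDepth 20000

namespace Cfsg.Agent.H692.Tall.Ten

open Equiv

/-- `z = (01)(23)(45)(67)` -/
def zf : Fin 10 → Fin 10 := ![1, 0, 3, 2, 5, 4, 7, 6, 8, 9]

/-- the function with given images of `0, 2, 4, 6, 8` commuting with `z` -/
def F (a b c d : Fin 8) (e : Bool) : Fin 10 → Fin 10 :=
  ![a.castLE (by norm_num), zf (a.castLE (by norm_num)), b.castLE (by norm_num), zf (b.castLE (by norm_num)),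
    c.castLE (by norm_num), zf (c.castLE (by norm_num)), d.castLE (by norm_num), zf (d.castLE (by norm_num)),
    bif e then 9 else 8, bif e then 8 else 9]

/-- `3`-cycles on the blocks, and the identity -/
def Cf : Fin 5 → Fin 10 → Fin 10 :=
  ![![0, 1, 2, 3, 4, 5, 6, 7, 8, 9], ![2, 3, 4, 5, 0, 1, 6, 7, 8, 9], ![2, 3, 6, 7, 4, 5, 0, 1, 8, 9],
    ![4, 5, 2, 3, 6, 7, 0, 1, 8, 9], ![0, 1, 4, 5, 6, 7, 2, 3, 8, 9]]

/-- their inverses -/
def Ci : Fin 5 → Fin 10 → Fin 10 := fun k i => Cf k (Cf k i)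

def zp : Perm (Fin 10) := ⟨zf, zf, by decide, by decide⟩

def Cp (k : Fin 5) : Perm (Fin 10) :=
  ⟨Cf k, Ci k, by revert k; decide, by revert k; decide⟩

/-- `(01)(89)` -/
def Df : Fin 10 → Fin 10 := ![1, 0, 2, 3, 4, 5, 6, 7, 9, 8]

def Dp : Perm (Fin 10) := ⟨Df, Df, by decide, by decide⟩

/-- three of the transpositions of `z`, and `(89)` -/
def Le : Fin 4 → Fin 10 → Fin 10 :=
  ![![0, 1, 3, 2, 5, 4, 7, 6, 9, 8], ![1, 0, 2, 3, 5, 4, 7, 6, 9, 8], ![1, 0, 3, 2, 4, 5, 7, 6, 9, 8],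
    ![1, 0, 3, 2, 5, 4, 6, 7, 9, 8]]

theorem chk1 : ∀ a b c d : Fin 8, ∀ e : Bool, (∀ i, F a b c d e (F a b c d e i) = i) →
    (Finset.univ.filter fun i => F a b c d e i = i).card = 2 →
    (∀ i, F a b c d e i = zf i) ∨
    (∃ k i, F a b c d e (Cf k (F a b c d e (Ci k i))) ≠ Cf k (F a b c d e (Ci k (F a b c d e i)))) ∨
    (∃ k i, F a b c d e (Cf k (F a b c d e (Df (F a b c d e (Df (Ci k i)))))) ≠
      Cf k (F a b c d e (Df (F a b c d e (Df (Ci k (F a b c d e i))))))) ∨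
    (∃ j, ∀ i, F a b c d e i = Le j i) := by
  decide +kernel

theorem lt_of_ne {w : Perm (Fin 10)} (h : ∀ i, w (zf i) = zf (w i)) {i : Fin 10} (hi : zf i ≠ i) :
    ∃ a : Fin 8, w i = a.castLE (by norm_num) := by
  have h1 : zf (w i) ≠ w i := fun h2 => hi (w.injective (by rw [h, h2]))
  have h2 : ∀ j : Fin 10, zf j ≠ j → ∃ a : Fin 8, j = a.castLE (by norm_num) := by decide
  exact h2 _ h1

/-- the code of an element commuting with `z` -/
theorem code {w : Perm (Fin 10)} (hw : w * zp = zp * w) : ∃ a b c d e, ∀ i, w i = F a b c d e i := by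
  have h : ∀ i, w (zf i) = zf (w i) := fun i => congrArg (fun g : Perm (Fin 10) => g i) hw
  obtain ⟨a, ha⟩ := lt_of_ne h (i := 0) (by decide)
  obtain ⟨b, hb⟩ := lt_of_ne h (i := 2) (by decide)
  obtain ⟨c, hc⟩ := lt_of_ne h (i := 4) (by decide)
  obtain ⟨d, hd⟩ := lt_of_ne h (i := 6) (by decide)
  have h2 : ∀ j : Fin 10, j = zf j → j = 8 ∨ j = 9 := by decide
  have h8 : w 8 = 8 ∨ w 8 = 9 := h2 _ (h 8)
  have h9 : w 9 = 8 ∨ w 9 = 9 := h2 _ (h 9)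
  have h89 : w 8 ≠ w 9 := fun h3 => absurd (w.injective h3) (by decide)
  have he : ∃ e : Bool, w 8 = (bif e then 9 else 8) ∧ w 9 = bif e then 8 else 9 := by
    rcases h8 with h8 | h8 <;> rcases h9 with h9 | h9
    · exact absurd (h8.trans h9.symm) h89
    · exact ⟨false, h8, h9⟩
    · exact ⟨true, h8, h9⟩
    · exact absurd (h8.trans h9.symm) h89
  obtain ⟨e, he1, he2⟩ := he
  refine ⟨a, b, c, d, e, fun i => ?_⟩
  fin_cases i
  · exact ha
  · exact (h 0).trans (congrArg zf ha)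
  · exact hb
  · exact (h 2).trans (congrArg zf hb)
  · exact hc
  · exact (h 4).trans (congrArg zf hc)
  · exact hd
  · exact (h 6).trans (congrArg zf hd)
  · exact he1
  · exact he2

/-- **The further elements of type `2⁴`.** -/
theorem cls {W : Set (Perm (Fin 10))} (hzc : ∀ w ∈ W, w * zp = zp * w) (hsq : ∀ w ∈ W, w * w = 1)
    (hcomm : ∀ v ∈ W, ∀ w ∈ W, v * w = w * v) (hmul : ∀ v ∈ W, ∀ w ∈ W, v * w ∈ W)
    (hconj : ∀ k, ∀ w ∈ W, Cp k * w * (Cp k)⁻¹ ∈ W) (hD : ∀ w ∈ W, Dp * w * Dp⁻¹ ∈ W)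
    {y : Perm (Fin 10)} (hy : y ∈ W) (hyf : (Finset.univ.filter fun i => y i = i).card = 2) (hyz : y ≠ zp) :
    ∃ j, ∀ i, y i = Le j i := by
  obtain ⟨a, b, c, d, e, hc⟩ := code (hzc y hy)
  have h2 : ∀ i, y (y i) = i := fun i => congrArg (fun g : Perm (Fin 10) => g i) (hsq y hy)
  have hf : (Finset.univ.filter fun i => F a b c d e i = i).card = 2 := by
    rw [← hyf]
    congr 1
    ext i
    simp only [Finset.mem_filter, hc]
  rcases chk1 a b c d e (fun i => by rw [← hc, ← hc]; exact h2 i) hf with h | ⟨k, i, h⟩ | ⟨k, i, h⟩ | ⟨j, h⟩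
  · exact absurd (Equiv.ext fun i => by rw [hc, h]; rfl) hyz
  · exfalso
    rw [← hc, ← hc, ← hc, ← hc] at h
    exact h (congrArg (fun g : Perm (Fin 10) => g i) (hcomm y hy _ (hconj k y hy)))
  · exfalso
    rw [← hc, ← hc, ← hc, ← hc, ← hc, ← hc] at h
    exact h (congrArg (fun g : Perm (Fin 10) => g i) (hcomm y hy _ (hconj k _ (hmul _ hy _ (hD y hy)))))
  · exact ⟨j, fun i => by rw [hc]; exact h i⟩

/-! ### The pairings of the blocks -/

/-- addition in `F₂²` -/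
def xr : Fin 4 → Fin 4 → Fin 4 := ![![0, 1, 2, 3], ![1, 0, 3, 2], ![2, 3, 0, 1], ![3, 2, 1, 0]]

/-- the block -/
def hf : Fin 10 → Fin 4 := ![0, 0, 1, 1, 2, 2, 3, 3, 0, 0]

/-- the first point of a block -/
def db : Fin 4 → Fin 10 := ![0, 2, 4, 6]

theorem aff : ∀ f : Fin 4 → Fin 4, Function.Injective f → ∀ x y, xr (f x) (f y) = xr (f 0) (f (xr x y)) := by
  decide +kernel

/-- the action on the blocks -/
def bl (w : Perm (Fin 10)) (a : Fin 4) : Fin 4 := hf (w (db a))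

theorem small {w : Perm (Fin 10)} (hw : w * zp = zp * w) {i : Fin 10} (hi : i < 8) : w i < 8 := by
  have h : ∀ i, w (zf i) = zf (w i) := fun i => congrArg (fun g : Perm (Fin 10) => g i) hw
  have h1 : zf i ≠ i := by revert i; decide
  have h2 : zf (w i) ≠ w i := fun h2 => h1 (w.injective (by rw [h, h2]))
  have h3 : ∀ j : Fin 10, zf j ≠ j → j < 8 := by decide
  exact h3 _ h2

theorem big {w : Perm (Fin 10)} (hw : w * zp = zp * w) {i : Fin 10} (hi : ¬ i < 8) : ¬ w i < 8 := by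
  have h : ∀ i, w (zf i) = zf (w i) := fun i => congrArg (fun g : Perm (Fin 10) => g i) hw
  have h1 : zf i = i := by revert i; decide
  have h2 : zf (w i) = w i := by rw [← h, h1]
  have h3 : ∀ j : Fin 10, zf j = j → ¬ j < 8 := by decide
  exact h3 _ h2

theorem hf_w {w : Perm (Fin 10)} (hw : w * zp = zp * w) {i : Fin 10} (hi : i < 8) : hf (w i) = bl w (hf i) := by
  have h : ∀ i, w (zf i) = zf (w i) := fun i => congrArg (fun g : Perm (Fin 10) => g i) hw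
  have h1 : ∀ i : Fin 10, i < 8 → i = db (hf i) ∨ i = zf (db (hf i)) := by decide
  have h2 : ∀ j : Fin 10, hf (zf j) = hf j := by decide
  rcases h1 i hi with h3 | h3
  · unfold bl
    rw [← h3]
  · unfold bl
    conv_lhs => rw [h3, h, h2]

theorem bl_inj {w : Perm (Fin 10)} (hw : w * zp = zp * w) : Function.Injective (bl w) := by
  have h : ∀ i, w (zf i) = zf (w i) := fun i => congrArg (fun g : Perm (Fin 10) => g i) hw
  intro a b hab
  have h1 : ∀ i j : Fin 10, i < 8 → j < 8 → hf i = hf j → i = j ∨ i = zf j := by decide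
  have h2 : ∀ a b : Fin 4, db a = db b → a = b := by decide
  have h3 : ∀ a b : Fin 4, db a = zf (db b) → a = b := by decide
  have h4 : ∀ a : Fin 4, db a < 8 := by decide
  rcases h1 _ _ (small hw (h4 a)) (small hw (h4 b)) hab with h5 | h5
  · exact h2 _ _ (w.injective h5)
  · exact h3 _ _ (w.injective (by rw [h, h5]))

theorem bl_mul {v w : Perm (Fin 10)} (hv : v * zp = zp * v) (hw : w * zp = zp * w) (a : Fin 4) :
    bl (v * w) a = bl v (bl w a) := by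
  have h4 : ∀ a : Fin 4, db a < 8 := by decide
  exact hf_w hv (small hw (h4 a))

/-- the action on the pairings -/
def lam (w : Perm (Fin 10)) (i : Fin 4) : Fin 4 := xr (bl w 0) (bl w i)

theorem lam_one (i : Fin 4) : lam 1 i = i := by
  revert i; decide

theorem lam_mul {v w : Perm (Fin 10)} (hv : v * zp = zp * v) (hw : w * zp = zp * w) (i : Fin 4) :
    lam (v * w) i = lam v (lam w i) := by
  unfold lam
  rw [bl_mul hv hw, bl_mul hv hw, aff _ (bl_inj hv)]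

theorem lam_ne {w : Perm (Fin 10)} (hw : w * zp = zp * w) {i : Fin 4} (hi : i ≠ 0) : lam w i ≠ 0 := by
  intro h
  have h1 : ∀ a b : Fin 4, xr a b = 0 → a = b := by decide
  exact hi (bl_inj hw (h1 _ _ h)).symm

/-- **A 2-group centralising `z` fixes a pairing.** -/
theorem exists_fix {P : Subgroup (Perm (Fin 10))} (hP : IsPGroup 2 P) (hPz : ∀ w ∈ P, w * zp = zp * w) :
    ∃ i : Fin 4, i ≠ 0 ∧ ∀ w ∈ P, lam w i = i := by
  have hp2 : Fact (Nat.Prime 2) := ⟨Nat.prime_two⟩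
  let _ : MulAction P {i : Fin 4 // i ≠ 0} :=
    { smul := fun w i => ⟨lam w i, lam_ne (hPz w w.2) i.2⟩
      one_smul := fun i => Subtype.ext (lam_one i)
      mul_smul := fun v w i => Subtype.ext (lam_mul (hPz v v.2) (hPz w w.2) i) }
  obtain ⟨⟨i, hi⟩, h⟩ := hP.nonempty_fixed_point_of_prime_not_dvd_card {i : Fin 4 // i ≠ 0} (by
    rw [Nat.card_eq_fintype_card]; decide)
  exact ⟨i, hi, fun w hw => congrArg Subtype.val (h ⟨w, hw⟩)⟩

/-- the equivalence relation of the partition into the two pairs of blocks and `{8, 9}` -/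
def Rl (i : Fin 4) (p q : Fin 10) : Prop := (p < 8 ↔ q < 8) ∧ (xr (hf p) (hf q) = 0 ∨ xr (hf p) (hf q) = i)

instance (i : Fin 4) (p q : Fin 10) : Decidable (Rl i p q) := inferInstanceAs (Decidable (_ ∧ _))

theorem Rl_w {w : Perm (Fin 10)} (hw : w * zp = zp * w) {i : Fin 4} (hi : lam w i = i) {p q : Fin 10} (h : Rl i p q) :
    Rl i (w p) (w q) := by
  obtain ⟨h1, h2⟩ := h
  by_cases hp : p < 8
  · have hq := h1.1 hp
    refine ⟨⟨fun _ => small hw hq, fun _ => small hw hp⟩, ?_⟩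
    rw [hf_w hw hp, hf_w hw hq, aff _ (bl_inj hw)]
    rcases h2 with h2 | h2
    · left
      rw [h2]
      have : ∀ a : Fin 4, xr a a = 0 := by decide
      exact this _
    · right
      rw [h2]
      exact hi
  · have hq : ¬ q < 8 := fun h => hp (h1.2 h)
    have h3 := big hw hp
    have h4 := big hw hq
    refine ⟨⟨fun h => absurd h h3, fun h => absurd h h4⟩, ?_⟩
    left
    have : ∀ a b : Fin 10, ¬ a < 8 → ¬ b < 8 → xr (hf a) (hf b) = 0 := by decide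
    exact this _ _ h3 h4

/-! ### The Klein groups on the classes -/

/-- the elements of the two Klein groups -/
def Lst : Fin 4 → Fin 6 → Fin 10 → Fin 10 :=
  ![![![1, 0, 3, 2, 4, 5, 6, 7, 8, 9], ![2, 3, 0, 1, 4, 5, 6, 7, 8, 9], ![3, 2, 1, 0, 4, 5, 6, 7, 8, 9], ![0, 1, 2, 3, 5, 4, 7, 6, 8, 9], ![0, 1, 2, 3, 6, 7, 4, 5, 8, 9], ![0, 1, 2, 3, 7, 6, 5, 4, 8, 9]],
    ![![1, 0, 3, 2, 4, 5, 6, 7, 8, 9], ![2, 3, 0, 1, 4, 5, 6, 7, 8, 9], ![3, 2, 1, 0, 4, 5, 6, 7, 8, 9], ![0, 1, 2, 3, 5, 4, 7, 6, 8, 9], ![0, 1, 2, 3, 6, 7, 4, 5, 8, 9], ![0, 1, 2, 3, 7, 6, 5, 4, 8, 9]],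
    ![![1, 0, 2, 3, 5, 4, 6, 7, 8, 9], ![4, 5, 2, 3, 0, 1, 6, 7, 8, 9], ![5, 4, 2, 3, 1, 0, 6, 7, 8, 9], ![0, 1, 3, 2, 4, 5, 7, 6, 8, 9], ![0, 1, 6, 7, 4, 5, 2, 3, 8, 9], ![0, 1, 7, 6, 4, 5, 3, 2, 8, 9]],
    ![![1, 0, 2, 3, 4, 5, 7, 6, 8, 9], ![6, 7, 2, 3, 4, 5, 0, 1, 8, 9], ![7, 6, 2, 3, 4, 5, 1, 0, 8, 9], ![0, 1, 3, 2, 5, 4, 6, 7, 8, 9], ![0, 1, 4, 5, 2, 3, 6, 7, 8, 9], ![0, 1, 5, 4, 3, 2, 6, 7, 8, 9]]]

theorem Lst_comm : ∀ i j j' x, Lst i j (Lst i j' x) = Lst i j' (Lst i j x) := by decide +kernel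

theorem Lst_sq : ∀ i j x, Lst i j (Lst i j x) = x := by decide +kernel

theorem Lst_Rl : ∀ i, i ≠ 0 → ∀ j p q, Rl i p q → Rl i (Lst i j p) (Lst i j q) := by decide +kernel

theorem Lst_mem : ∀ i, i ≠ 0 → ∀ p0 p1, p0 ≠ p1 → Rl i p0 p1 → ∀ p2, p0 ≠ p2 → p1 ≠ p2 → Rl i p0 p2 →
    ∀ p3, p0 ≠ p3 → p1 ≠ p3 → p2 ≠ p3 → Rl i p0 p3 → ∃ j, ∀ x, swap p0 p1 (swap p2 p3 x) = Lst i j x := by
  decide +kernel

/-- the involutions of the Klein groups -/
def NN (i : Fin 4) : Set (Perm (Fin 10)) :=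
  {σ | ∃ p0 p1 p2 p3, p0 ≠ p1 ∧ Rl i p0 p1 ∧ p0 ≠ p2 ∧ p1 ≠ p2 ∧ Rl i p0 p2 ∧ p0 ≠ p3 ∧ p1 ≠ p3 ∧ p2 ≠ p3 ∧
    Rl i p0 p3 ∧ σ = swap p0 p1 * swap p2 p3}

theorem NN_lst {i : Fin 4} (hi : i ≠ 0) {σ : Perm (Fin 10)} (h : σ ∈ NN i) : ∃ j, ∀ x, σ x = Lst i j x := by
  obtain ⟨p0, p1, p2, p3, h1, h2, h3, h4, h5, h6, h7, h8, h9, rfl⟩ := h
  exact Lst_mem i hi p0 p1 h1 h2 p2 h3 h4 h5 p3 h6 h7 h8 h9

theorem NN_comm {i : Fin 4} (hi : i ≠ 0) {σ τ : Perm (Fin 10)} (hσ : σ ∈ NN i) (hτ : τ ∈ NN i) : σ * τ = τ * σ := by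
  obtain ⟨j, hj⟩ := NN_lst hi hσ
  obtain ⟨j', hj'⟩ := NN_lst hi hτ
  ext x
  rw [Perm.mul_apply, Perm.mul_apply, hj, hj', hj, hj', Lst_comm]

theorem NN_sq {i : Fin 4} (hi : i ≠ 0) {σ : Perm (Fin 10)} (hσ : σ ∈ NN i) : σ * σ = 1 := by
  obtain ⟨j, hj⟩ := NN_lst hi hσ
  ext x
  rw [Perm.mul_apply, hj, hj, Lst_sq]
  rfl

/-- the permutations preserving the partition -/
def Pr (i : Fin 4) (g : Perm (Fin 10)) : Prop := ∀ p q, Rl i p q ↔ Rl i (g p) (g q)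

theorem NN_Pr {i : Fin 4} (hi : i ≠ 0) {σ : Perm (Fin 10)} (hσ : σ ∈ NN i) : Pr i σ := by
  obtain ⟨j, hj⟩ := NN_lst hi hσ
  intro p q
  rw [hj, hj]
  refine ⟨Lst_Rl i hi j p q, fun h => ?_⟩
  have := Lst_Rl i hi j _ _ h
  rwa [Lst_sq, Lst_sq] at this

theorem NN_conj {i : Fin 4} {σ g : Perm (Fin 10)} (hg : Pr i g) (hσ : σ ∈ NN i) : g * σ * g⁻¹ ∈ NN i := by
  obtain ⟨p0, p1, p2, p3, h1, h2, h3, h4, h5, h6, h7, h8, h9, rfl⟩ := hσ
  refine ⟨g p0, g p1, g p2, g p3, fun h => h1 (g.injective h), (hg _ _).1 h2, fun h => h3 (g.injective h),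
    fun h => h4 (g.injective h), (hg _ _).1 h5, fun h => h6 (g.injective h), fun h => h7 (g.injective h),
    fun h => h8 (g.injective h), (hg _ _).1 h9, ?_⟩
  rw [Equiv.swap_apply_apply, Equiv.swap_apply_apply]
  group

theorem NN_ne : ∀ i : Fin 4, i ≠ 0 → swap 0 1 * swap (db i) (zf (db i)) ∈ NN i := by
  intro i hi
  refine ⟨0, 1, db i, zf (db i), ?_⟩
  revert i
  decide

theorem NN_even {i : Fin 4} {σ : Perm (Fin 10)} (hσ : σ ∈ NN i) : σ ∈ alternatingGroup (Fin 10) := by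
  obtain ⟨p0, p1, p2, p3, h1, h2, h3, h4, h5, h6, h7, h8, h9, rfl⟩ := hσ
  rw [Perm.mem_alternatingGroup, map_mul, Perm.sign_swap h1, Perm.sign_swap h8]
  decide

/-! ### The 3-cycles -/

theorem chk3 : ∀ i : Fin 4, i ≠ 0 → ∀ j : Fin 4, ∃ p q r, p ≠ q ∧ p ≠ r ∧ q ≠ r ∧ Rl i p q ∧ Rl i p r ∧
    Le j p = q ∧ Le j q = p ∧ Le j r = r := by
  decide +kernel

theorem Rl_symm : ∀ i p q, Rl i p q → Rl i q p := by decide +kernel

theorem Rl_refl : ∀ i p, Rl i p p := by decide +kernel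

theorem Rl_trans : ∀ i, i ≠ 0 → ∀ p q, Rl i p q → ∀ r, Rl i q r → Rl i p r := by decide +kernel

theorem Rl_swap {i : Fin 4} {p q : Fin 10} (h : Rl i p q) (u : Fin 10) : Rl i u (swap p q u) := by
  by_cases h1 : u = p
  · rw [h1, swap_apply_left]; exact h
  · by_cases h2 : u = q
    · rw [h2, swap_apply_right]; exact Rl_symm i _ _ h
    · rw [swap_apply_of_ne_of_ne h1 h2]; exact Rl_refl i u

theorem Pr_swap {i : Fin 4} (hi : i ≠ 0) {p q : Fin 10} (h : Rl i p q) : Pr i (swap p q) := by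
  intro u v
  have h1 := Rl_swap h u
  have h2 := Rl_swap h v
  exact ⟨fun h3 => Rl_trans i hi _ _ (Rl_trans i hi _ _ (Rl_symm i _ _ h1) _ h3) _ h2,
    fun h3 => Rl_trans i hi _ _ (Rl_trans i hi _ _ h1 _ h3) _ (Rl_symm i _ _ h2)⟩

theorem Pr.mul {i : Fin 4} {g h : Perm (Fin 10)} (hg : Pr i g) (hh : Pr i h) : Pr i (g * h) := fun p q =>
  (hh p q).trans (hg _ _)

theorem Pr.inv {i : Fin 4} {g : Perm (Fin 10)} (hg : Pr i g) : Pr i g⁻¹ := fun p q => by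
  have := hg (g⁻¹ p) (g⁻¹ q)
  have e1 : g (g⁻¹ p) = p := g.apply_symm_apply p
  have e2 : g (g⁻¹ q) = q := g.apply_symm_apply q
  rw [e1, e2] at this
  exact this.symm

/-- a `3`-cycle preserving the partition and inverted by `y` -/
theorem exists_cyc {i : Fin 4} (hi : i ≠ 0) {y : Perm (Fin 10)} {j : Fin 4} (hy : ∀ x, y x = Le j x) :
    ∃ c : Perm (Fin 10), c.IsThreeCycle ∧ Pr i c ∧ y * c * y⁻¹ = c⁻¹ := by
  obtain ⟨p, q, r, h1, h2, h3, h4, h5, h6, h7, h8⟩ := chk3 i hi j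
  rw [← hy] at h6 h7 h8
  refine ⟨swap p q * swap p r, Perm.isThreeCycle_swap_mul_swap_same h1 h2 h3, (Pr_swap hi h4).mul (Pr_swap hi h5), ?_⟩
  have e1 : y * (swap p q * swap p r) * y⁻¹ = (y * swap p q * y⁻¹) * (y * swap p r * y⁻¹) := by group
  rw [e1, ← Equiv.swap_apply_apply, ← Equiv.swap_apply_apply, h6, h7, h8, mul_inv_rev, swap_inv, swap_inv]
  have e2 : swap p r = swap p q * swap q r * (swap p q)⁻¹ := by
    rw [← Equiv.swap_apply_apply, swap_apply_right, swap_apply_of_ne_of_ne (Ne.symm h2) (Ne.symm h3)]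
  rw [e2, swap_comm q p, swap_inv]
  rw [mul_assoc, mul_assoc, swap_mul_self, mul_one]

end Cfsg.Agent.H692.Tall.Ten
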