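import Cfsg.Agent.H226.Tall.Gen
import Cfsg.Agent.H497.AltId
import Cfsg.Agent.StandardComponent.AltAut
import Cfsg.Agent.H839.Tall.Alt
import Cfsg.Agent.Lib.NormalAbelian
import Cfsg.Agent.H692.Tall.Nine
import Cfsg.Agent.H692.Tall.Ten

/-!
# S2927, rows `A_9`, `A_10` with `F*(G) = K` (helper692)

* `exists_rho` : `G` embeds in `S_n`;
* `exists_z`, `wdat` : an involution `z` of `Z(S) ∩ K` and `W = ⟨Y ^ N(Q)⟩`;
* `no1_alt_nine`, `no1_alt_ten`.
-/

set_option autoImplicit false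
set_option linter.unusedSectionVars false

namespace Cfsg.Agent.H692.Tall

open Subgroup Equiv Cfsg
open Cfsg.Agent.H239.CharPLocal (CP)
open Cfsg.Agent.H226.Tall

universe u

section

variable {G : Type u} [Group G] {Q Y : Subgroup G}

theorem conj_W {c : G} (hc : c ∈ normalizer (Q : Set G)) {w : G} (hw : w ∈ Wc Q Y) : c * w * c⁻¹ ∈ Wc Q Y := by
  unfold Wc at hw ⊢
  induction hw using closure_induction with
  | mem v hv =>
    obtain ⟨d, hd, y, hy, rfl⟩ := hv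
    refine subset_closure ⟨c * d, mul_mem hc hd, y, hy, by group⟩
  | one => simp
  | mul a b _ _ ha hb =>
    have e : c * (a * b) * c⁻¹ = (c * a * c⁻¹) * (c * b * c⁻¹) := by group
    rw [e]
    exact mul_mem ha hb
  | inv a _ ha =>
    have e : c * a⁻¹ * c⁻¹ = (c * a * c⁻¹)⁻¹ := by group
    rw [e]
    exact inv_mem ha

theorem Y_le_W {y : G} (hy : y ∈ Y) : y ∈ Wc Q Y := by
  unfold Wc
  exact subset_closure ⟨1, one_mem _, y, hy, by simp⟩

end

variable {G : Type u} [Group G] [Finite G] {S : Sylow 2 G} {Q M Y : Subgroup G} {x : G} {K : Subgroup G} {n : ℕ}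

theorem exists_rho (hn : 7 ≤ n) (h : One S Q M Y x K) (e : ↥K ≃* ↥(alternatingGroup (Fin n))) :
    ∃ ρ : G →* Perm (Fin n), (∀ k : ↥K, ρ k = e k) ∧ Function.Injective ρ := by
  obtain ⟨m, rfl⟩ : ∃ m, n = m + 2 := ⟨n - 2, by omega⟩
  have := h.nK
  obtain ⟨ρ, h1, h2⟩ := Cfsg.Agent.H497.AltId.exists_psi (by omega) e fun g => by
    obtain ⟨σ, hσ⟩ := Cfsg.Agent.StandardComponent.AltAut.exists_conj (by omega)
      ((e.symm.trans (MulAut.conjNormal g)).trans e)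
    refine ⟨σ, fun k => ?_⟩
    have := hσ (e k)
    simpa using this
  refine ⟨ρ, h1, ?_⟩
  rw [injective_iff_map_eq_one]
  intro g hg
  have h3 := h2 g hg
  rwa [h.cent, mem_bot] at h3

/-- an involution in `Z(S) ∩ K` -/
theorem exists_z (hn : 4 ≤ n) (hK : K.Normal) (e : ↥K ≃* ↥(alternatingGroup (Fin n))) :
    ∃ z ∈ K, z * z = 1 ∧ z ≠ 1 ∧ z ∈ (S : Subgroup G) ∧ ∀ s ∈ (S : Subgroup G), s * z = z * s := by
  classical
  have hp2 : Fact (Nat.Prime 2) := ⟨Nat.prime_two⟩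
  have h2 : 2 ∣ Nat.card ↥K := by
    rw [Nat.card_congr e.toEquiv]
    have : Nontrivial (Fin n) := Fin.nontrivial_iff_two_le.2 (by omega)
    have h1 := two_mul_nat_card_alternatingGroup (α := Fin n)
    rw [Nat.card_perm, show Nat.card (Fin n) = n by simp] at h1
    have h3 : 4 ∣ n.factorial := (by decide : 4 ∣ Nat.factorial 4).trans (Nat.factorial_dvd_factorial hn)
    rw [← h1] at h3
    obtain ⟨k, hk⟩ := h3
    exact ⟨k, by omega⟩
  obtain ⟨t, ht⟩ := exists_prime_orderOf_dvd_card' 2 h2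
  have ht2 : orderOf (t : G) = 2 := by rw [Subgroup.orderOf_coe, ht]
  have hpz : IsPGroup 2 (zpowers (t : G)) := by
    refine IsPGroup.of_card (n := 1) ?_
    rw [Nat.card_zpowers, ht2, pow_one]
  obtain ⟨P, hP⟩ := hpz.exists_le_sylow
  obtain ⟨g, hg⟩ := MulAction.exists_smul_eq G P S
  have htP : (t : G) ∈ (P : Subgroup G) := hP (mem_zpowers _)
  have htS : g * t * g⁻¹ ∈ (S : Subgroup G) := by
    rw [← hg]
    exact ⟨t, htP, rfl⟩
  have hnil : Group.IsNilpotent (S : Subgroup G) := S.isPGroup'.isNilpotent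
  have hnorm : (K.subgroupOf (S : Subgroup G)).Normal := hK.subgroupOf _
  have hne : K.subgroupOf (S : Subgroup G) ≠ ⊥ := by
    intro hb
    have h3 : (⟨g * t * g⁻¹, htS⟩ : (S : Subgroup G)) ∈ K.subgroupOf (S : Subgroup G) := by
      rw [mem_subgroupOf]
      exact hK.conj_mem _ t.2 g
    rw [hb, mem_bot] at h3
    have h4 : g * t * g⁻¹ = 1 := congrArg Subtype.val h3
    rw [mul_inv_eq_one, mul_eq_left] at h4
    rw [h4, orderOf_one] at ht2
    omega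
  have h4 := Cfsg.Agent.Lib.NormalAbelian.normal_inf_center_ne_bot (K.subgroupOf (S : Subgroup G)) hne
  have h5 : IsPGroup 2 ↥(K.subgroupOf (S : Subgroup G) ⊓ center (S : Subgroup G)) := S.isPGroup'.to_subgroup _
  have h6 : 2 ∣ Nat.card ↥(K.subgroupOf (S : Subgroup G) ⊓ center (S : Subgroup G)) := by
    have : Nontrivial ↥(K.subgroupOf (S : Subgroup G) ⊓ center (S : Subgroup G)) := (nontrivial_iff_ne_bot _).2 h4
    obtain ⟨k, hk⟩ := IsPGroup.iff_card.1 h5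
    rcases k with _ | k
    · have := Finite.one_lt_card (α := ↥(K.subgroupOf (S : Subgroup G) ⊓ center (S : Subgroup G)))
      omega
    · rw [hk]
      exact dvd_pow_self 2 (Nat.succ_ne_zero k)
  obtain ⟨z, hz⟩ := exists_prime_orderOf_dvd_card' 2 h6
  have hz1 : z * z = 1 := by
    have h7 := pow_orderOf_eq_one z
    rwa [hz, pow_two] at h7
  have hz2 : z ≠ 1 := by
    intro h7
    rw [h7, orderOf_one] at hz
    omega
  have hzc := mem_center_iff.1 z.2.2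
  refine ⟨z.1.1, z.2.1, congrArg (fun a => a.1.1) hz1, fun h7 => hz2 (Subtype.ext (Subtype.ext h7)), z.1.2,
    fun s hs => congrArg Subtype.val (hzc ⟨s, hs⟩)⟩

/-- the properties of `W` -/
theorem wdat (h : Tall S Q M Y x) {z : G} (hzS : ∀ s ∈ (S : Subgroup G), s * z = z * s) (hzz : z * z = 1)
    (hz1 : z ≠ 1) :
    CP 2 ↥(centralizer ({z} : Set G)) ∧ z ∈ Wc Q Y ∧ (∀ c, c * z = z * c → ∀ w ∈ Wc Q Y, c * w * c⁻¹ ∈ Wc Q Y) ∧
      (∀ w ∈ Wc Q Y, w * z = z * w) ∧ ∀ v ∈ Wc Q Y, ∀ w ∈ Wc Q Y, v * w = w * v := by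
  have hzQ : z ∈ Q := h.zS z hzS ⟨1, by rw [pow_one, pow_two, hzz]⟩
  obtain ⟨h1, h2⟩ := h.good z hzQ hz1 fun q hq => hzS q (h.Q_le hq)
  refine ⟨h2, Y_le_W (h.omega z hzS hzz), fun c hc w hw => conj_W (h1 (mem_centralizer_singleton_iff.2 hc)) hw,
    fun w hw => hzS w (h.Q_le (h.W_le hw)), fun v hv w hw => ?_⟩
  have e1 := h.W_sq _ (mul_mem hv hw)
  have e2 := h.W_sq _ hv
  have e3 := h.W_sq _ hw
  calc v * w = v * (v * w * (v * w)) * w := by rw [e1, mul_one]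
    _ = (v * v) * (w * v) * (w * w) := by group
    _ = w * v := by rw [e2, e3, one_mul, mul_one]

/-- conjugacy of involutions -/
theorem exists_conj_inv {g g' : Perm (Fin n)} (h : orderOf g = 2) (h' : orderOf g' = 2)
    (hs : g.support.card = g'.support.card) : ∃ σ : Perm (Fin n), σ * g * σ⁻¹ = g' := by
  have h1 : IsConj g g' := by
    rw [Perm.isConj_iff_cycleType_eq]
    obtain ⟨a, ha⟩ := Perm.cycleType_prime_order (σ := g) (by rw [h]; exact Nat.prime_two)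
    obtain ⟨b, hb⟩ := Perm.cycleType_prime_order (σ := g') (by rw [h']; exact Nat.prime_two)
    rw [← Perm.sum_cycleType, ← Perm.sum_cycleType, ha, hb, Multiset.sum_replicate, Multiset.sum_replicate, h, h',
      smul_eq_mul, smul_eq_mul] at hs
    rw [ha, hb, h, h', show a = b by omega]
  exact isConj_iff.1 h1

/-- **The number of points moved by `z`.** -/
theorem supp_z (h : One S Q M Y x K) (e : ↥K ≃* ↥(alternatingGroup (Fin n))) {z : G} (hz : z ∈ K)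
    (hcp : CP 2 ↥(centralizer ({z} : Set G))) (hzz : z * z = 1) (hz1 : z ≠ 1) :
    (e ⟨z, hz⟩ : Perm (Fin n)).support.card % 4 = 0 ∧ (e ⟨z, hz⟩ : Perm (Fin n)).support.card ≤ n ∧
      (n ≤ (e ⟨z, hz⟩ : Perm (Fin n)).support.card + 2 ∨ n = (e ⟨z, hz⟩ : Perm (Fin n)).support.card + 4) := by
  have hp2 : Fact (Nat.Prime 2) := ⟨Nat.prime_two⟩
  have hK := h.nK
  have h1 : CP 2 ↥(K.subgroupOf (centralizer ({z} : Set G))) := hcp.normal _
  let f : ↥(K.subgroupOf (centralizer ({z} : Set G))) ≃* ↥(centralizer ({(⟨z, hz⟩ : ↥K)} : Set ↥K)) :=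
    { toFun := fun a => ⟨⟨a.1.1, a.2⟩, mem_centralizer_singleton_iff.2
        (Subtype.ext (mem_centralizer_singleton_iff.1 a.1.2))⟩
      invFun := fun a => ⟨⟨a.1.1, mem_centralizer_singleton_iff.2
        (congrArg Subtype.val (mem_centralizer_singleton_iff.1 a.2))⟩, a.1.2⟩
      left_inv := fun a => rfl
      right_inv := fun a => rfl
      map_mul' := fun a b => rfl }
  have h2 : CP 2 ↥(centralizer ({(⟨z, hz⟩ : ↥K)} : Set ↥K)) := h1.of_equiv f
  have h3 := (cp_cent_iff e _).1 h2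
  have h4 := Cfsg.Agent.H237.AltCP.cp_cent h3
  have ho : orderOf (e ⟨z, hz⟩) = 2 := by
    rw [MulEquiv.orderOf_eq]
    refine orderOf_eq_prime (Subtype.ext ?_) fun h5 => hz1 (congrArg Subtype.val h5)
    show z ^ 2 = 1
    rw [pow_two, hzz]
  have h5 := Cfsg.Agent.H839.Tall.supp_mod ho
  have h6 := Cfsg.Agent.H839.Tall.card_fix (e ⟨z, hz⟩ : Perm (Fin n))
  omega

/-- the embedding in `S_n`, `z` becoming a given involution -/
theorem exists_all (hn : 7 ≤ n) (h : One S Q M Y x K) (e : ↥K ≃* ↥(alternatingGroup (Fin n))) {zp : Perm (Fin n)}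
    (ho : orderOf zp = 2)
    (hs : ∀ s : ℕ, s % 4 = 0 → s ≤ n → (n ≤ s + 2 ∨ n = s + 4) → s = zp.support.card) :
    ∃ (ρ : G →* Perm (Fin n)) (z : G), Function.Injective ρ ∧ (∀ σ ∈ alternatingGroup (Fin n), ∃ g, ρ g = σ) ∧
      ρ z = zp ∧ z * z = 1 ∧ z ≠ 1 ∧ z ∈ (S : Subgroup G) ∧ ∀ s ∈ (S : Subgroup G), s * z = z * s := by
  obtain ⟨ρ, hρ, hinj⟩ := exists_rho hn h e
  obtain ⟨z, hzK, hzz, hz1, hzS, hzc⟩ := exists_z (S := S) (by omega) h.nK e
  obtain ⟨hcp, -⟩ := wdat h.toTall hzc hzz hz1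
  obtain ⟨h1, h2, h3⟩ := supp_z h e hzK hcp hzz hz1
  have h4 := hs _ h1 h2 h3
  have hρz : ρ z = e ⟨z, hzK⟩ := hρ ⟨z, hzK⟩
  rw [← hρz] at h4
  have hoz : orderOf (ρ z) = 2 := by
    refine orderOf_eq_prime (by rw [← map_pow, pow_two, hzz, map_one]) fun h5 => hz1 (hinj (by rw [h5, map_one]))
  obtain ⟨σ, hσ⟩ := exists_conj_inv hoz ho h4
  refine ⟨(MulAut.conj σ).toMonoidHom.comp ρ, z, fun a b hab => hinj ((MulAut.conj σ).injective hab), fun τ hτ => ?_,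
    hσ, hzz, hz1, hzS, hzc⟩
  have hτ' : σ⁻¹ * τ * σ ∈ alternatingGroup (Fin n) := by
    rw [Perm.mem_alternatingGroup] at hτ ⊢
    rw [map_mul, map_mul, hτ, mul_one, ← map_mul, inv_mul_cancel, map_one]
  refine ⟨(e.symm ⟨_, hτ'⟩ : ↥K), ?_⟩
  show σ * ρ _ * σ⁻¹ = τ
  rw [hρ, MulEquiv.apply_symm_apply]
  show σ * (σ⁻¹ * τ * σ) * σ⁻¹ = τ
  group

section

variable {ρ : G →* Perm (Fin n)} {z : G} {zp : Perm (Fin n)}

theorem W_facts (h : Tall S Q M Y x) (hinj : Function.Injective ρ) (hρz : ρ z = zp) (hzz : z * z = 1) (hz1 : z ≠ 1)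
    (hzc : ∀ s ∈ (S : Subgroup G), s * z = z * s) :
    (∀ w ∈ ρ '' (Wc Q Y : Set G), w * zp = zp * w) ∧ (∀ w ∈ ρ '' (Wc Q Y : Set G), w * w = 1) ∧
    (∀ v ∈ ρ '' (Wc Q Y : Set G), ∀ w ∈ ρ '' (Wc Q Y : Set G), v * w = w * v) ∧
    (∀ v ∈ ρ '' (Wc Q Y : Set G), ∀ w ∈ ρ '' (Wc Q Y : Set G), v * w ∈ ρ '' (Wc Q Y : Set G)) ∧
    ∀ c, (∃ g, ρ g = c) → c * zp = zp * c → ∀ w ∈ ρ '' (Wc Q Y : Set G), c * w * c⁻¹ ∈ ρ '' (Wc Q Y : Set G) := by
  obtain ⟨-, -, h1, h2, h3⟩ := wdat h hzc hzz hz1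
  refine ⟨?_, ?_, ?_, ?_, ?_⟩
  · rintro _ ⟨w, hw, rfl⟩
    rw [← hρz, ← map_mul, ← map_mul, h2 w hw]
  · rintro _ ⟨w, hw, rfl⟩
    rw [← map_mul, h.W_sq w hw, map_one]
  · rintro _ ⟨v, hv, rfl⟩ _ ⟨w, hw, rfl⟩
    rw [← map_mul, ← map_mul, h3 v hv w hw]
  · rintro _ ⟨v, hv, rfl⟩ _ ⟨w, hw, rfl⟩
    exact ⟨v * w, mul_mem hv hw, map_mul _ _ _⟩
  · rintro _ ⟨g, rfl⟩ hg _ ⟨w, hw, rfl⟩
    refine ⟨g * w * g⁻¹, h1 g (hinj ?_) w hw, by rw [map_mul, map_mul, map_inv]⟩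
    rw [map_mul, map_mul, hρz, hg]

/-- the further conjugate of `z` -/
theorem exists_y (h : Tall S Q M Y x) (hinj : Function.Injective ρ) (hρz : ρ z = zp) (hzz : z * z = 1) (hz1 : z ≠ 1)
    (hzc : ∀ s ∈ (S : Subgroup G), s * z = z * s) :
    ∃ y ∈ Y, ρ y ≠ zp ∧ ∃ τ : Perm (Fin n), ρ y = τ * zp * τ⁻¹ := by
  obtain ⟨m, -, h1, h2⟩ := h.moves z hzc hzz hz1
  exact ⟨_, h1, fun h3 => h2 (hinj (by rw [h3, hρz])), ρ m, by rw [map_mul, map_mul, map_inv, hρz]⟩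

end

theorem no1_alt_nine : No1.{u} (fun K _ => Nonempty (K ≃* ↥(alternatingGroup (Fin 9)))) := by
  intro G _ _ S Q M Y x K h he
  obtain ⟨e⟩ := he
  have hsupp : (Nine.zp).support.card = 8 := by decide +kernel
  have hoz : orderOf Nine.zp = 2 := orderOf_eq_prime (by decide +kernel) (by decide +kernel)
  obtain ⟨ρ, z, hinj, hsurj, hρz, hzz, hz1, hzS, hzc⟩ := exists_all (by norm_num) h e hoz (by
    rw [hsupp]
    intro s h1 h2 h3
    omega)
  obtain ⟨w1, w2, w3, w4, w5⟩ := W_facts h.toTall hinj hρz hzz hz1 hzc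
  obtain ⟨y, hyY, hyz, τ, hτ⟩ := exists_y h.toTall hinj hρz hzz hz1 hzc
  have hyW : ρ y ∈ ρ '' (Wc Q Y : Set G) := ⟨y, Y_le_W hyY, rfl⟩
  have hfix8 : ∀ w ∈ ρ '' (Wc Q Y : Set G), w 8 = 8 := fun w hw => Nine.code (w1 w hw) 8
  have hcC : ∀ k, Nine.Cp k * Nine.zp = Nine.zp * Nine.Cp k := by decide +kernel
  have hevC : ∀ k, Nine.Cp k ∈ alternatingGroup (Fin 9) := by
    intro k
    rw [Perm.mem_alternatingGroup]
    revert k
    decide +kernel
  have hconj : ∀ k, ∀ w ∈ ρ '' (Wc Q Y : Set G), Nine.Cp k * w * (Nine.Cp k)⁻¹ ∈ ρ '' (Wc Q Y : Set G) :=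
    fun k => w5 _ (hsurj _ (hevC k)) (hcC k)
  have hy8 : ∀ i, i ≠ 8 → ρ y i ≠ i := by
    have h1 : ∀ i : Fin 9, Nine.zp i = i → i = 8 := by decide +kernel
    have h2 : ∀ i, ρ y i = i → τ⁻¹ i = 8 := by
      intro i hi
      apply h1
      rw [hτ] at hi
      have h3 : τ (Nine.zp (τ⁻¹ i)) = i := hi
      apply τ.injective
      rw [h3]
      exact (τ.apply_symm_apply i).symm
    intro i hi h3
    apply hi
    have h4 := h2 i h3
    have h5 := h2 8 (hfix8 _ hyW)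
    exact τ⁻¹.injective (h4.trans h5.symm)
  by_cases hodd : ∃ g : G, ρ g ∉ alternatingGroup (Fin 9)
  · obtain ⟨g, hg⟩ := hodd
    have hall : ∀ σ : Perm (Fin 9), ∃ g, ρ g = σ := by
      intro σ
      rcases Int.units_eq_one_or (Perm.sign σ) with h1 | h1
      · exact hsurj σ (Perm.mem_alternatingGroup.2 h1)
      · have h2 : Perm.sign (ρ g) = -1 := by
          rcases Int.units_eq_one_or (Perm.sign (ρ g)) with h3 | h3
          · exact absurd (Perm.mem_alternatingGroup.2 h3) hg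
          · exact h3
        obtain ⟨a, ha⟩ := hsurj (σ * ρ g) (by
          rw [Perm.mem_alternatingGroup, map_mul, h1, h2]; decide)
        exact ⟨a * g⁻¹, by rw [map_mul, map_inv, ha]; group⟩
    exact Nine.nine_b w1 w2 w3 w4 hconj (w5 _ (hall _) (by decide +kernel)) hyW hy8 hyz
  · push Not at hodd
    have hxW : ρ x ∈ ρ '' (Wc Q Y : Set G) := ⟨x, Y_le_W h.x_mem, rfl⟩
    have hx1 : ρ x ≠ 1 := by
      intro h1
      have h2 : x = 1 := hinj (by rw [h1, map_one])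
      have h3 := h.x_ord
      rw [h2, orderOf_one] at h3
      omega
    have hx8 := Nine.nine_a w1 w2 w3 hconj hyW hy8 hyz hxW hx1
    have hsx : (ρ x).support.card = 8 := by
      have h1 : (ρ x).support = Finset.univ.erase 8 := by
        ext i
        rw [Perm.mem_support, Finset.mem_erase]
        refine ⟨fun h1 => ⟨fun h2 => h1 ?_, Finset.mem_univ _⟩, fun h1 => hx8 i h1.1⟩
        rw [h2]
        exact hfix8 _ hxW
      rw [h1, Finset.card_erase_of_mem (Finset.mem_univ _)]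
      rfl
    have hox : orderOf (ρ x) = 2 := orderOf_eq_prime (by rw [pow_two]; exact w2 _ hxW) hx1
    obtain ⟨σ, hσ⟩ := exists_conj_inv hoz hox (by rw [hsupp, hsx])
    obtain ⟨g, hg⟩ : ∃ g, ρ (g * z * g⁻¹) = ρ x := by
      rcases Int.units_eq_one_or (Perm.sign σ) with h1 | h1
      · obtain ⟨g, hg⟩ := hsurj σ (Perm.mem_alternatingGroup.2 h1)
        exact ⟨g, by rw [map_mul, map_mul, map_inv, hg, hρz, hσ]⟩
      · obtain ⟨g, hg⟩ := hsurj (σ * Nine.fp) (by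
          rw [Perm.mem_alternatingGroup, map_mul, h1]
          decide +kernel)
        refine ⟨g, ?_⟩
        rw [map_mul, map_mul, map_inv, hg, hρz, ← hσ]
        have h2 : Nine.fp * Nine.zp = Nine.zp * Nine.fp := by decide +kernel
        calc σ * Nine.fp * Nine.zp * (σ * Nine.fp)⁻¹ = σ * (Nine.fp * Nine.zp) * (Nine.fp)⁻¹ * σ⁻¹ := by group
          _ = σ * Nine.zp * σ⁻¹ := by rw [h2]; group
    have hxg := hinj hg
    apply h.x_bad
    rw [← hxg]
    exact Cfsg.Agent.H239.CharPLocal.cp_centralizer_conj g z (wdat h.toTall hzc hzz hz1).1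

/-- the stabiliser of the partition -/
def LL (ρ : G →* Perm (Fin 10)) (i : Fin 4) : Subgroup G where
  carrier := {g | Ten.Pr i (ρ g)}
  mul_mem' ha hb := by
    show Ten.Pr i (ρ _)
    rw [map_mul]
    exact Ten.Pr.mul ha hb
  one_mem' := by
    show Ten.Pr i (ρ 1)
    rw [map_one]
    exact fun _ _ => Iff.rfl
  inv_mem' ha := by
    show Ten.Pr i (ρ _)
    rw [map_inv]
    exact Ten.Pr.inv ha

/-- the preimage of the two Klein groups -/
def VV (ρ : G →* Perm (Fin 10)) (i : Fin 4) : Subgroup G := closure {g | ρ g ∈ Ten.NN i}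

theorem VV_sq {ρ : G →* Perm (Fin 10)} (hinj : Function.Injective ρ) {i : Fin 4} (hi : i ≠ 0) :
    (∀ v ∈ VV ρ i, v * v = 1) := by
  have hcomm : ∀ v ∈ VV ρ i, ∀ w ∈ VV ρ i, v * w = w * v := by
    have h1 : VV ρ i ≤ centralizer {g | ρ g ∈ Ten.NN i} := by
      unfold VV
      rw [closure_le]
      intro g hg
      rw [SetLike.mem_coe, mem_centralizer_iff]
      intro g' hg'
      exact hinj (by rw [map_mul, map_mul, Ten.NN_comm hi hg' hg])
    have h2 : VV ρ i ≤ centralizer (VV ρ i : Set G) := by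
      conv_lhs => rw [VV]
      rw [closure_le]
      intro g hg
      rw [SetLike.mem_coe, mem_centralizer_iff]
      intro v hv
      exact (mem_centralizer_iff.1 (h1 hv) g hg).symm
    intro v hv w hw
    exact (mem_centralizer_iff.1 (h2 hv) w hw).symm
  intro v hv
  have hv' := hv
  unfold VV at hv
  induction hv using closure_induction with
  | mem g hg => exact hinj (by rw [map_mul, Ten.NN_sq hi hg, map_one])
  | one => simp
  | mul a b ha hb iha ihb =>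
    have e := hcomm a ha b hb
    calc a * b * (a * b) = a * (b * a) * b := by group
      _ = (a * a) * (b * b) := by rw [← e]; group
      _ = 1 := by rw [iha ha, ihb hb, one_mul]
  | inv a ha iha =>
    rw [← mul_inv_rev, iha ha, inv_one]

theorem VV_conj {ρ : G →* Perm (Fin 10)} {i : Fin 4} {g : G} (hg : g ∈ LL ρ i) {v : G} (hv : v ∈ VV ρ i) :
    g * v * g⁻¹ ∈ VV ρ i := by
  unfold VV at hv ⊢
  induction hv using closure_induction with
  | mem w hw =>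
    refine subset_closure ?_
    show ρ (g * w * g⁻¹) ∈ Ten.NN i
    rw [map_mul, map_mul, map_inv]
    exact Ten.NN_conj hg hw
  | one => simp
  | mul a b _ _ ha hb =>
    have e : g * (a * b) * g⁻¹ = (g * a * g⁻¹) * (g * b * g⁻¹) := by group
    rw [e]
    exact mul_mem ha hb
  | inv a _ ha =>
    have e : g * a⁻¹ * g⁻¹ = (g * a * g⁻¹)⁻¹ := by group
    rw [e]
    exact inv_mem ha

theorem VV_le {ρ : G →* Perm (Fin 10)} {i : Fin 4} (hi : i ≠ 0) : VV ρ i ≤ LL ρ i := by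
  unfold VV
  rw [closure_le]
  intro g hg
  exact Ten.NN_Pr hi hg

theorem VV_le_O2 {ρ : G →* Perm (Fin 10)} (hinj : Function.Injective ρ) {i : Fin 4} (hi : i ≠ 0) :
    VV ρ i ≤ O2 (LL ρ i) := by
  have hn : ((VV ρ i).subgroupOf (LL ρ i)).Normal :=
    ⟨fun v hv g => by
      rw [mem_subgroupOf] at hv ⊢
      exact VV_conj g.2 hv⟩
  have hp : IsPGroup 2 ↥((VV ρ i).subgroupOf (LL ρ i)) := by
    intro v
    refine ⟨1, Subtype.ext (Subtype.ext ?_)⟩
    rw [pow_one, pow_two]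
    exact VV_sq hinj hi _ v.2
  have h1 := Cfsg.Agent.Lib.Cores.le_pCore hn hp
  intro v hv
  exact ⟨⟨v, VV_le hi hv⟩, h1 (mem_subgroupOf.2 hv), rfl⟩

/-- `CP 2 L` from `C_G(O₂(L)) ≤ O₂(L)` -/
theorem cp_of_cent {L : Subgroup G} (h : centralizer (O2 L : Set G) ≤ O2 L) : CP 2 ↥L := by
  intro g hg
  rw [mem_centralizer_iff] at hg
  have h1 : (g : G) ∈ centralizer (O2 L : Set G) := by
    rw [mem_centralizer_iff]
    rintro _ ⟨a, ha, rfl⟩
    exact congrArg Subtype.val (hg a ha)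
  obtain ⟨a, ha, hag⟩ := h h1
  have : a = g := Subtype.ext hag
  rw [← this]
  exact ha

theorem no1_alt_ten : No1.{u} (fun K _ => Nonempty (K ≃* ↥(alternatingGroup (Fin 10)))) := by
  intro G _ _ S Q M Y x K h he
  obtain ⟨e⟩ := he
  have hsupp : (Ten.zp).support.card = 8 := by decide +kernel
  have hoz : orderOf Ten.zp = 2 := orderOf_eq_prime (by decide +kernel) (by decide +kernel)
  obtain ⟨ρ, z, hinj, hsurj, hρz, hzz, hz1, hzS, hzc⟩ := exists_all (by norm_num) h e hoz (by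
    rw [hsupp]
    intro s h1 h2 h3
    omega)
  obtain ⟨w1, w2, w3, w4, w5⟩ := W_facts h.toTall hinj hρz hzz hz1 hzc
  obtain ⟨y, hyY, hyz, τ, hτ⟩ := exists_y h.toTall hinj hρz hzz hz1 hzc
  have hyW : ρ y ∈ ρ '' (Wc Q Y : Set G) := ⟨y, Y_le_W hyY, rfl⟩
  have hcC : ∀ k, Ten.Cp k * Ten.zp = Ten.zp * Ten.Cp k := by decide +kernel
  have hevC : ∀ k, Ten.Cp k ∈ alternatingGroup (Fin 10) := by
    intro k
    rw [Perm.mem_alternatingGroup]
    revert k
    decide +kernel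
  have hconj : ∀ k, ∀ w ∈ ρ '' (Wc Q Y : Set G), Ten.Cp k * w * (Ten.Cp k)⁻¹ ∈ ρ '' (Wc Q Y : Set G) :=
    fun k => w5 _ (hsurj _ (hevC k)) (hcC k)
  have hD : ∀ w ∈ ρ '' (Wc Q Y : Set G), Ten.Dp * w * Ten.Dp⁻¹ ∈ ρ '' (Wc Q Y : Set G) :=
    w5 _ (hsurj _ (Perm.mem_alternatingGroup.2 (by decide +kernel))) (by decide +kernel)
  have hyf : (Finset.univ.filter fun i => ρ y i = i).card = 2 := by
    have h1 : (ρ y).support.card = 8 := by
      rw [hτ, Perm.card_support_conj, hsupp]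
    have h2 : (Finset.univ.filter fun i => ρ y i = i).card + (Finset.univ.filter fun i => ¬ ρ y i = i).card = 10 := by
      rw [Finset.card_filter_add_card_filter_not]
      rfl
    have h3 : (ρ y).support = Finset.univ.filter fun i => ¬ ρ y i = i := by
      ext i
      rw [Perm.mem_support, Finset.mem_filter]
      simp
    rw [← h3, h1] at h2
    omega
  obtain ⟨j, hj⟩ := Ten.cls w1 w2 w3 w4 hconj hD hyW hyf hyz
  -- the partition
  have hP : IsPGroup 2 ((S : Subgroup G).map ρ) := S.isPGroup'.map _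
  obtain ⟨i, hi, hfix⟩ := Ten.exists_fix hP (by
    rintro _ ⟨s, hs, rfl⟩
    rw [← hρz, ← map_mul, ← map_mul, hzc s hs])
  have hsL : (S : Subgroup G) ≤ LL ρ i := by
    have h1 : ∀ s ∈ (S : Subgroup G), ∀ p q, Ten.Rl i p q → Ten.Rl i (ρ s p) (ρ s q) := by
      intro s hs p q hpq
      exact Ten.Rl_w (by rw [← hρz, ← map_mul, ← map_mul, hzc s hs]) (hfix _ ⟨s, hs, rfl⟩) hpq
    intro s hs
    show Ten.Pr i (ρ s)
    intro p q
    refine ⟨h1 s hs p q, fun h2 => ?_⟩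
    have h3 := h1 s⁻¹ (inv_mem hs) _ _ h2
    rw [map_inv] at h3
    have e1 : ∀ p, (ρ s)⁻¹ (ρ s p) = p := fun p => (ρ s).symm_apply_apply p
    rwa [e1, e1] at h3
  have hne : O2 (LL ρ i) ≠ ⊥ := by
    obtain ⟨v, hv⟩ := hsurj _ (Ten.NN_even (Ten.NN_ne i hi))
    have h1 : v ∈ O2 (LL ρ i) :=
      VV_le_O2 hinj hi (subset_closure (show ρ v ∈ Ten.NN i by rw [hv]; exact Ten.NN_ne i hi))
    intro h2
    rw [h2, mem_bot] at h1
    rw [h1, map_one] at hv
    have h3 : ∀ i : Fin 4, i ≠ 0 → (1 : Perm (Fin 10)) = swap 0 1 * swap (Ten.db i) (Ten.zf (Ten.db i)) → False := by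
      decide +kernel
    exact h3 i hi hv
  have hYL := h.nct (LL ρ i) (by
    rw [h.T_eq]
    exact inf_le_left.trans hsL) (cp_of_cent (h.par _ hsL hne))
  obtain ⟨c, hc3, hcP, hcy⟩ := Ten.exists_cyc hi hj
  obtain ⟨g, hg⟩ := hsurj c hc3.mem_alternatingGroup
  have hgL : g ∈ LL ρ i := by
    show Ten.Pr i (ρ g)
    rw [hg]
    exact hcP
  have hyg : y * g * y⁻¹ = g⁻¹ := hinj (by rw [map_mul, map_mul, map_inv, map_inv, hg, hcy])
  have hgo : orderOf g = 3 := by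
    rw [← orderOf_injective ρ hinj, hg, hc3.orderOf]
  have hg3 : g * g * g = 1 := by
    have h1 := pow_orderOf_eq_one g
    rw [hgo, pow_succ, pow_two] at h1
    exact h1
  obtain ⟨y', hy', hyy⟩ := hYL hyY
  have hn := Cfsg.Agent.Lib.Cores.pCore_normal (G := ↥(LL ρ i)) 2
  have h1 : y' * ((⟨g, hgL⟩ : ↥(LL ρ i)) * y'⁻¹ * (⟨g, hgL⟩ : ↥(LL ρ i))⁻¹) ∈ pCore 2 ↥(LL ρ i) :=
    mul_mem hy' (hn.conj_mem _ (inv_mem hy') _)
  have h2 : y' * ((⟨g, hgL⟩ : ↥(LL ρ i)) * y'⁻¹ * (⟨g, hgL⟩ : ↥(LL ρ i))⁻¹) = ⟨g, hgL⟩ := by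
    apply Subtype.ext
    show (y' : G) * (g * (y' : G)⁻¹ * g⁻¹) = g
    have e1 : (y' : G) = y := hyy
    rw [e1]
    calc y * (g * y⁻¹ * g⁻¹) = (y * g * y⁻¹) * g⁻¹ := by group
      _ = g⁻¹ * g⁻¹ * (g * g * g) := by rw [hyg, hg3, mul_one]
      _ = g := by group
  rw [h2] at h1
  obtain ⟨k, hk⟩ := Cfsg.Agent.Lib.Cores.pCore_isPGroup (G := ↥(LL ρ i)) 2 ⟨_, h1⟩
  have h3 : g ^ 2 ^ k = 1 := congrArg (fun a => ((a : ↥(pCore 2 ↥(LL ρ i))) : ↥(LL ρ i)).1) hk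
  have h4 := orderOf_dvd_of_pow_eq_one h3
  rw [hgo] at h4
  have := Nat.prime_three.dvd_of_dvd_pow h4
  omega

end Cfsg.Agent.H692.Tall
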